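import Cfsg.Agent.Lib.ExtraspecialLarge.Setting

/-!
Two orthogonal conjugates of the central involution of an extraspecial group of order 512: the intersection of
their extraspecial groups, and the action of one on it.
-/

set_option autoImplicit false

namespace CfsgLib.SThreeSSix

open CfsgLib.ExtraspecialLarge

variable {G : Type*} [Group G] [Finite G]

omit [Finite G] in
/-- A subgroup containing `u` and one more element of `Q`. -/
theorem exists_extend {Q V : Subgroup G} {u x : G} (h : Good Q u) (hV : V ≤ Q) (hu : u ∈ V) (hx : x ∈ Q) :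
    ∃ W : Subgroup G, (∀ g, g ∈ W ↔ g ∈ V ∨ x * g ∈ V) := by
  have hconj : ∀ v ∈ V, x * v * x⁻¹ ∈ V := fun v hv => by
    rcases h.cases_conj x hx v (hV hv) with e | e <;> rw [e]
    · exact hv
    · exact V.mul_mem hu hv
  have hsq : x * x ∈ V := by
    rcases h.sq x hx with e | e <;> rw [e]
    · exact V.one_mem
    · exact hu
  have hconj' : ∀ v ∈ V, x⁻¹ * v * x ∈ V := fun v hv => by
    have h2 := V.mul_mem (V.mul_mem (V.inv_mem hsq) (hconj v hv)) hsq
    rwa [show (x * x)⁻¹ * (x * v * x⁻¹) * (x * x) = x⁻¹ * v * x by group] at h2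
  refine ⟨⟨⟨⟨{g | g ∈ V ∨ x * g ∈ V}, ?_⟩, Or.inl V.one_mem⟩, ?_⟩, fun g => Iff.rfl⟩
  · rintro a b (ha | ha) (hb | hb)
    · exact Or.inl (V.mul_mem ha hb)
    · refine Or.inr ?_
      rw [show x * (a * b) = (x * a * x⁻¹) * (x * b) by group]
      exact V.mul_mem (hconj a ha) hb
    · refine Or.inr ?_
      rw [← mul_assoc]
      exact V.mul_mem ha hb
    · refine Or.inl ?_
      rw [show a * b = (x * x)⁻¹ * ((x * (x * a) * x⁻¹) * (x * b)) by group]
      exact V.mul_mem (V.inv_mem hsq) (V.mul_mem (hconj _ ha) hb)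
  · rintro a (ha | ha)
    · exact Or.inl (V.inv_mem ha)
    · refine Or.inr ?_
      rw [show x * a⁻¹ = x * ((x * a)⁻¹) * x⁻¹ * (x * x) by group]
      exact V.mul_mem (hconj _ (V.inv_mem ha)) hsq

/-- counting form of the double centraliser -/
theorem card_centralizer_mul_card_le {Q U : Subgroup G} {u : G} (h : Good Q u) (hU : U ≤ Q)
    (hu : u ∈ U) :
    Nat.card ↥(Q ⊓ Subgroup.centralizer (U : Set G)) * Nat.card ↥U ≤ 2 * Nat.card ↥Q := by
  classical
  have := Fintype.ofFinite G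
  suffices key : ∀ S : Finset G, (∀ x ∈ S, x ∈ U) → ∃ V : Subgroup G, V ≤ U ∧ u ∈ V ∧ (∀ x ∈ S, x ∈ V) ∧
      Nat.card ↥(Q ⊓ Subgroup.centralizer (V : Set G)) * Nat.card ↥V ≤ 2 * Nat.card ↥Q by
    obtain ⟨V, hVU, -, hall, hle⟩ := key (Finset.univ.filter fun x => x ∈ U) (by simp)
    have hVeq : V = U := le_antisymm hVU fun x hx => hall x (by simp [hx])
    rwa [hVeq] at hle
  intro S
  induction S using Finset.induction_on with
  | empty =>
    intro _
    refine ⟨Subgroup.zpowers u, Subgroup.zpowers_le.2 hu, Subgroup.mem_zpowers u, by simp, ?_⟩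
    rw [Nat.card_zpowers, orderOf_eq_prime (by rw [pow_two]; exact h.sq_u) h.ne_one, mul_comm]
    exact Nat.mul_le_mul_left 2 (Subgroup.card_le_of_le inf_le_left)
  | insert x S _ ih =>
    intro hS
    obtain ⟨V, hVU, huV, hall, hle⟩ := ih fun y hy => hS y (Finset.mem_insert_of_mem hy)
    have hxU : x ∈ U := hS x (Finset.mem_insert_self _ _)
    by_cases hxV : x ∈ V
    · exact ⟨V, hVU, huV, (Finset.forall_mem_insert _ _ _).2 ⟨hxV, hall⟩, hle⟩
    obtain ⟨W, hW⟩ := exists_extend h (hVU.trans hU) huV (hU hxU)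
    have hVW : V ≤ W := fun g hg => (hW g).2 (Or.inl hg)
    have hsq : x * x ∈ V := by
      rcases h.sq x (hU hxU) with e | e <;> rw [e]
      · exact V.one_mem
      · exact huV
    have hxW : x ∈ W := (hW x).2 (Or.inr hsq)
    have hWU : W ≤ U := fun g hg => by
      rcases (hW g).1 hg with hg | hg
      · exact hVU hg
      · simpa using U.mul_mem (U.inv_mem hxU) (hVU hg)
    refine ⟨W, hWU, hVW huV, (Finset.forall_mem_insert _ _ _).2 ⟨hxW, fun y hy => hVW (hall y hy)⟩, ?_⟩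
    have h1 : Nat.card W ≤ 2 * Nat.card V := by
      let f : Bool × V → W := fun p =>
        ⟨if p.1 then x⁻¹ * p.2 else p.2, by
          rcases p with ⟨_ | _, v, hv⟩
          · exact hVW hv
          · exact W.mul_mem (W.inv_mem hxW) (hVW hv)⟩
      have hf : Function.Surjective f := by
        rintro ⟨g, hg⟩
        rcases (hW g).1 hg with h' | h'
        · exact ⟨(false, ⟨g, h'⟩), rfl⟩
        · exact ⟨(true, ⟨x * g, h'⟩), Subtype.ext (by simp [f])⟩
      have := Nat.card_le_card_of_surjective f hf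
      rwa [Nat.card_prod, Nat.card_eq_fintype_card (α := Bool), Fintype.card_bool] at this
    have h2 : 2 * Nat.card ↥(Q ⊓ Subgroup.centralizer (W : Set G)) ≤
        Nat.card ↥(Q ⊓ Subgroup.centralizer (V : Set G)) := by
      have hsub : Q ⊓ Subgroup.centralizer (W : Set G) ≤ Q ⊓ Subgroup.centralizer (V : Set G) :=
        inf_le_inf_left _ (Subgroup.centralizer_le hVW)
      obtain ⟨q, hq, hqV, hqx⟩ := h.exists_flip (hVU.trans hU) huV (hU hxU) hxV
      have hq1 : q ∈ Q ⊓ Subgroup.centralizer (V : Set G) :=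
        ⟨hq, Subgroup.mem_centralizer_iff.2 fun a ha => (hqV a ha).symm⟩
      have hq2 : q ∉ Q ⊓ Subgroup.centralizer (W : Set G) := fun hh =>
        h.not_comm_of_flip hqx (Subgroup.mem_centralizer_iff.1 hh.2 x hxW).symm
      have hne : (Q ⊓ Subgroup.centralizer (W : Set G)).relIndex (Q ⊓ Subgroup.centralizer (V : Set G)) ≠ 1 :=
        fun e => hq2 (Subgroup.relIndex_eq_one.1 e hq1)
      have hmul := Subgroup.card_mul_index
        ((Q ⊓ Subgroup.centralizer (W : Set G)).subgroupOf (Q ⊓ Subgroup.centralizer (V : Set G)))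
      rw [Nat.card_congr (Subgroup.subgroupOfEquivOfLe hsub).toEquiv] at hmul
      change Nat.card _ * Subgroup.relIndex _ _ = _ at hmul
      rw [← hmul, mul_comm]
      refine Nat.mul_le_mul_left _ ?_
      have : (Q ⊓ Subgroup.centralizer (W : Set G)).relIndex (Q ⊓ Subgroup.centralizer (V : Set G)) ≠ 0 :=
        Subgroup.index_ne_zero_of_finite
      omega
    calc Nat.card ↥(Q ⊓ Subgroup.centralizer (W : Set G)) * Nat.card W
        ≤ Nat.card ↥(Q ⊓ Subgroup.centralizer (W : Set G)) * (2 * Nat.card V) := Nat.mul_le_mul_left _ h1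
      _ = 2 * Nat.card ↥(Q ⊓ Subgroup.centralizer (W : Set G)) * Nat.card V := by ring
      _ ≤ Nat.card ↥(Q ⊓ Subgroup.centralizer (V : Set G)) * Nat.card V := Nat.mul_le_mul_right _ h2
      _ ≤ _ := hle

/-- facts on two orthogonal conjugates -/
structure Line (Q : G → Subgroup G) (z a : G) : Prop where
  mem_left : a ∈ Q z
  mem_right : z ∈ Q a
  sq_E : ∀ e ∈ Q z ⊓ Q a, e * e = 1
  comm_E : ∀ e ∈ Q z ⊓ Q a, ∀ f ∈ Q z ⊓ Q a, e * f = f * e
  card_E_le : Nat.card ↥(Q z ⊓ Q a) ≤ 32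
  card_R : Nat.card ↥(Q a ⊓ Subgroup.centralizer ({z} : Set G)) = 256
  sq_R : ∀ r ∈ Q a, r * z = z * r → r * r ∈ Q z ⊓ Q a
  comm_R : ∀ r ∈ Q a, r * z = z * r → ∀ s ∈ Q a, s * z = z * s → r * s * r⁻¹ * s⁻¹ ∈ Q z ⊓ Q a
  conj_E : ∀ r ∈ Q a, ∀ e ∈ Q z ⊓ Q a, r * e * r⁻¹ = e ∨ r * e * r⁻¹ = a * e
  flip : Nat.card ↥(Q z ⊓ Q a) = 32 → ∀ r ∈ Q a, r ∉ Q z →
    ∃ e ∈ Q z ⊓ Q a, r * e * r⁻¹ = a * e
  kern : Nat.card ↥(Q z ⊓ Q a) = 32 → ∀ r ∈ Q a, r ∉ Q z → ∀ s ∈ Q a, s ∉ Q z → r * s ∉ Q z →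
    ∃ e ∈ Q z ⊓ Q a, r * e = e * r ∧ s * e * s⁻¹ = a * e

theorem line {Q : G → Subgroup G} {z g : G} (h : CoreSetting Q z) (hcard : Nat.card ↥(Q z) = 2 ^ 9)
    (ha : g * z * g⁻¹ ∈ Q z) (hne : g * z * g⁻¹ ≠ z) : Line Q z (g * z * g⁻¹) := by
  have hzQa : z ∈ Q (g * z * g⁻¹) := h.symm ha
  have hA : Good (Q (g * z * g⁻¹)) (g * z * g⁻¹) := h.good_of_conj ⟨g, rfl⟩
  have hZ := h.good
  have hcardA : Nat.card ↥(Q (g * z * g⁻¹)) = 2 ^ 9 := by
    rw [h.eq_map g z, Subgroup.card_map_of_injective (MulAut.conj g).injective, hcard]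
  generalize g * z * g⁻¹ = a at ha hne hzQa hA hcardA ⊢
  have haE : a ∈ Q z ⊓ Q a := ⟨ha, hA.mem⟩
  have hcommE : ∀ e ∈ Q z ⊓ Q a, ∀ f ∈ Q z ⊓ Q a, e * f = f * e := by
    intro e he f hf
    rcases hZ.cases_conj e he.1 f hf.1 with c | c
    · exact mul_inv_eq_iff_eq_mul.1 c
    rcases hA.cases_conj e he.2 f hf.2 with c' | c'
    · exact mul_inv_eq_iff_eq_mul.1 c'
    · exact absurd (mul_right_cancel (c'.symm.trans c)) hne
  have hsqE : ∀ e ∈ Q z ⊓ Q a, e * e = 1 := by
    intro e he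
    rcases hZ.sq e he.1 with c | c
    · exact c
    rcases hA.sq e he.2 with c' | c'
    · exact c'
    · exact absurd (c'.symm.trans c) hne
  have hEle : ∀ {X : G}, X ∈ ({z, a} : Set G) → Q z ⊓ Q a ≤ Q X ⊓ Subgroup.centralizer ((Q z ⊓ Q a : Subgroup G) : Set G) := by
    intro X hX e he
    refine ⟨?_, Subgroup.mem_centralizer_iff.2 fun f hf => hcommE f hf e he⟩
    rcases hX with rfl | rfl
    · exact he.1
    · exact he.2
  have hcardE : Nat.card ↥(Q z ⊓ Q a) ≤ 32 := by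
    have h1 := card_centralizer_mul_card_le hZ (U := Q z ⊓ Q a) inf_le_left ⟨hZ.mem, hzQa⟩
    have h2 := Subgroup.card_le_of_le (hEle (X := z) (Or.inl rfl))
    rw [hcard] at h1
    nlinarith
  have hself : Nat.card ↥(Q z ⊓ Q a) = 32 → ∀ r ∈ Q a, (∀ e ∈ Q z ⊓ Q a, r * e = e * r) → r ∈ Q z := by
    intro h32 r hr hc
    have h1 := card_centralizer_mul_card_le hA (U := Q z ⊓ Q a) inf_le_right haE
    rw [hcardA, h32] at h1
    have heq := Subgroup.eq_of_le_of_card_ge (hEle (X := a) (Or.inr rfl)) (by rw [h32]; omega)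
    have hr' : r ∈ Q a ⊓ Subgroup.centralizer ((Q z ⊓ Q a : Subgroup G) : Set G) :=
      ⟨hr, Subgroup.mem_centralizer_iff.2 fun e he => (hc e he).symm⟩
    rw [← heq] at hr'
    exact hr'.1
  have hconjE : ∀ r ∈ Q a, ∀ e ∈ Q z ⊓ Q a, r * e * r⁻¹ = e ∨ r * e * r⁻¹ = a * e :=
    fun r hr e he => hA.cases_conj r hr e he.2
  have hflip : Nat.card ↥(Q z ⊓ Q a) = 32 → ∀ r ∈ Q a, r ∉ Q z → ∃ e ∈ Q z ⊓ Q a, r * e * r⁻¹ = a * e := by
    intro h32 r hr hrz
    by_contra hcon
    push Not at hcon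
    exact hrz (hself h32 r hr fun e he => mul_inv_eq_iff_eq_mul.1 ((hconjE r hr e he).resolve_right (hcon e he)))
  refine ⟨ha, hzQa, hsqE, hcommE, hcardE, ?_, ?_, ?_, hconjE, hflip, ?_⟩
  · obtain ⟨q, hq, hqz⟩ : ∃ q ∈ Q a, q * z * q⁻¹ = a * z := by
      by_contra hcon
      push Not at hcon
      rcases hA.center z hzQa fun q hq =>
          mul_inv_eq_iff_eq_mul.1 ((hA.cases_conj q hq z hzQa).resolve_right (hcon q hq)) with e | e
      · exact hZ.ne_one e
      · exact hne e.symm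
    have hmem : ∀ p : ↥(Q a), p ∈ (Subgroup.centralizer ({z} : Set G)).subgroupOf (Q a) ↔ (p : G) * z = z * p :=
      fun p => Subgroup.mem_subgroupOf.trans Subgroup.mem_centralizer_singleton_iff
    have hidx : ((Subgroup.centralizer ({z} : Set G)).subgroupOf (Q a)).index = 2 := by
      refine Subgroup.index_eq_two_iff.2 ⟨⟨q, hq⟩, fun p => ?_⟩
      rw [hmem, hmem]
      by_cases hp : (p : G) * z = z * p
      · refine Or.inr ⟨hp, fun hh => hA.not_comm_of_flip hqz ?_⟩
        have : (q : G) = (p : G)⁻¹ * ((p : G) * q) := by group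
        rw [this]
        exact ((Commute.inv_left hp).mul_left hh).eq
      · exact Or.inl ⟨hA.flip_mul p.2 hq (hA.flip_of_not_comm p.2 hzQa hp) hqz, hp⟩
    have hmul := Subgroup.card_mul_index ((Subgroup.centralizer ({z} : Set G)).subgroupOf (Q a))
    rw [hidx, hcardA] at hmul
    have e : Nat.card ↥((Subgroup.centralizer ({z} : Set G)).subgroupOf (Q a)) =
        Nat.card ↥(Q a ⊓ Subgroup.centralizer ({z} : Set G)) := by
      rw [← Subgroup.inf_subgroupOf_left]
      exact Nat.card_congr (Subgroup.subgroupOfEquivOfLe inf_le_left).toEquiv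
    omega
  · intro r hr _
    rcases hA.sq r hr with c | c <;> rw [c]
    · exact one_mem _
    · exact haE
  · intro r hr _ s hs _
    rcases hA.cases_conj r hr s hs with c | c <;> rw [c]
    · rw [mul_inv_cancel]; exact one_mem _
    · rw [mul_inv_cancel_right]; exact haE
  · intro h32 r hr hrz s hs hsz hrsz
    by_contra hcon
    push Not at hcon
    have hcs : ∀ e ∈ Q z ⊓ Q a, r * e = e * r → s * e = e * s := fun e he hre =>
      mul_inv_eq_iff_eq_mul.1 ((hconjE s hs e he).resolve_right (hcon e he hre))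
    obtain ⟨e₀, he₀, hre₀⟩ := hflip h32 r hr hrz
    have hsplit : ∀ e ∈ Q z ⊓ Q a, r * e * r⁻¹ = a * e → s * (e * e₀) = e * e₀ * s := by
      intro e he hre
      refine hcs _ (mul_mem he he₀) (mul_inv_eq_iff_eq_mul.1 ?_)
      calc r * (e * e₀) * r⁻¹ = (r * e * r⁻¹) * (r * e₀ * r⁻¹) := by group
        _ = (a * e) * (a * e₀) := by rw [hre, hre₀]
        _ = a * (a * e) * e₀ := by rw [← mul_assoc, mul_assoc a e a, hcommE e he a haE]
        _ = e * e₀ := by rw [← mul_assoc a a, hA.sq_u, one_mul]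
    by_cases hse₀ : s * e₀ = e₀ * s
    · refine hsz (hself h32 s hs fun e he => ?_)
      rcases hconjE r hr e he with c | c
      · exact hcs e he (mul_inv_eq_iff_eq_mul.1 c)
      · have h1 := hsplit e he c
        apply mul_right_cancel (b := e₀)
        rw [mul_assoc s e e₀, h1, mul_assoc, mul_assoc, hse₀]
    · refine hrsz (hself h32 (r * s) (mul_mem hr hs) fun e he => ?_)
      rcases hconjE r hr e he with c | c
      · exact ((show Commute r e from mul_inv_eq_iff_eq_mul.1 c).mul_left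
          (hcs e he (mul_inv_eq_iff_eq_mul.1 c))).eq
      · refine hA.flip_mul hr hs c ?_
        refine (hconjE s hs e he).resolve_left fun c' => hse₀ ?_
        have hse : s * e = e * s := mul_inv_eq_iff_eq_mul.1 c'
        have h1 := hsplit e he c
        apply mul_left_cancel (a := e)
        rw [← mul_assoc, ← hse, mul_assoc, h1, mul_assoc]

end CfsgLib.SThreeSSix
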